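import Cfsg.Agent.Lib.CosetEnum.Ident

/-! The presentation on the generators a, …, f of the presented Suzuki group. -/

set_option autoImplicit false
set_option maxRecDepth 20000
set_option Elab.async false

namespace Cfsg.Agent.Lib.CosetEnum.SuzSub

open Cfsg.Agent.Lib.CosetEnum

/-- Relator words. -/
def RL0 : List (List ℕ) := [[],
    [0, 1, 0, 1, 0, 1, 0, 1, 0, 1],
    [0, 2, 0, 2],
    [0, 3, 0, 3],
    [0, 4, 0, 4],
    [0, 5, 0, 5],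
    [1, 2, 1, 2, 1, 2],
    [1, 3, 1, 3],
    [1, 4, 1, 4],
    [1, 5, 1, 5, 1, 5],
    [2, 3, 2, 3, 2, 3, 2, 3, 2, 3, 2, 3, 2, 3, 2, 3],
    [2, 4, 2, 4],
    [2, 5, 2, 5],
    [3, 4, 3, 4, 3, 4],
    [3, 5, 3, 5],
    [4, 5, 4, 5],
    [0, 3, 2, 3, 2, 3, 2, 3, 2],
    [0, 1, 2, 5, 0, 1, 2, 5, 0, 1, 2, 5, 0, 1, 2, 5, 0, 1, 2, 5],
    [1, 2, 3, 2, 3, 1, 2, 3, 2, 3, 1, 2, 3, 2, 3, 1, 2, 3, 2, 3, 1, 2, 3, 2, 3, 4, 1, 2, 3, 2, 3, 1, 2, 3, 2, 3, 1, 2, 3, 2, 3, 1, 2, 3, 2, 3, 1, 2, 3, 2, 3, 4, 1, 2, 3, 2, 3, 1, 2, 3, 2, 3, 1, 2, 3, 2, 3, 1, 2, 3, 2, 3, 1, 2, 3, 2, 3, 4],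
    [0, 0],
    [1, 1],
    [2, 2],
    [3, 3],
    [4, 4],
    [5, 5]]

/-- The letters. -/
noncomputable abbrev letters : Letters (Fin 6) := invLetters 5 0x18a418820 RL0

/-- The relators. -/
abbrev pres : Set (FreeGroup (Fin 6)) := invPres 5 0x18a418820 RL0

theorem rels_mem : ∀ r ∈ letters.rels, r ∈ pres := invPres_mem _ _ _

theorem letters_col : ∀ a, letters.col a < letters.K ∧ letters.sym (letters.col a) = (a, true) :=
  invLetters_col _ _ _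

theorem letters_ok : letters.OK :=
  invLetters_ok (by omega) (by decide +kernel) (by decide +kernel) (by decide +kernel)

end Cfsg.Agent.Lib.CosetEnum.SuzSub
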