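import Cfsg.Agent.Lib.CosetEnum.SuzChain.L1
import Cfsg.Agent.Lib.CosetEnum.SuzChain.L2
import Cfsg.Agent.Lib.CosetEnum.SuzChain.L4
import Cfsg.Agent.Lib.CosetEnum.SuzChain.L5
import Cfsg.Agent.Lib.CosetEnum.SuzChain.L6
import Cfsg.Agent.Lib.CosetEnum.SuzSub.Pres

/-! The order bound for the presentation on a, …, f, from the certificates for Suz. -/

set_option autoImplicit false
set_option maxRecDepth 20000
set_option Elab.async false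

namespace Cfsg.Agent.Lib.CosetEnum.SuzSub

open Cfsg.Agent.Lib.CosetEnum

theorem bound1 :
    Nat.card (subOf Cfsg.Agent.Lib.CosetEnum.SuzSub.letters Cfsg.Agent.Lib.CosetEnum.SuzSub.pres ([2].map fun g => [g])) ≠ 0 ∧
    Nat.card (subOf Cfsg.Agent.Lib.CosetEnum.SuzSub.letters Cfsg.Agent.Lib.CosetEnum.SuzSub.pres ([2].map fun g => [g])) ≤ 2 :=
  card_le_of_enum Cfsg.Agent.Lib.CosetEnum.SuzSub.letters Cfsg.Agent.Lib.CosetEnum.SuzSub.pres Cfsg.Agent.Lib.CosetEnum.SuzSub.rels_mem Cfsg.Agent.Lib.CosetEnum.SuzSub.letters_ok Cfsg.Agent.Lib.CosetEnum.SuzSub.letters_col [2]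
    Cfsg.Agent.Lib.CosetEnum.SuzChain.L1.data 1 1 2 Cfsg.Agent.Lib.CosetEnum.SuzChain.L1.table Cfsg.Agent.Lib.CosetEnum.SuzChain.L1.vert Cfsg.Agent.Lib.CosetEnum.SuzChain.L1.edge (by omega) rfl (by decide +kernel) (by decide +kernel)
    (by decide +kernel) [[],
    [0, 0]] []
    (by decide +kernel) (by decide +kernel) rfl rfl (by decide +kernel)
    (fun φ H hV => Cfsg.Agent.Lib.CosetEnum.SuzChain.L1.good _ _ φ H hV) (by decide +kernel) Cfsg.Agent.Lib.CosetEnum.SuzChain.L1.edges_ok 1 (card_subOf_nil _ _)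

theorem bound2 :
    Nat.card (subOf Cfsg.Agent.Lib.CosetEnum.SuzSub.letters Cfsg.Agent.Lib.CosetEnum.SuzSub.pres ([2, 3].map fun g => [g])) ≠ 0 ∧
    Nat.card (subOf Cfsg.Agent.Lib.CosetEnum.SuzSub.letters Cfsg.Agent.Lib.CosetEnum.SuzSub.pres ([2, 3].map fun g => [g])) ≤ 16 :=
  card_le_of_enum Cfsg.Agent.Lib.CosetEnum.SuzSub.letters Cfsg.Agent.Lib.CosetEnum.SuzSub.pres Cfsg.Agent.Lib.CosetEnum.SuzSub.rels_mem Cfsg.Agent.Lib.CosetEnum.SuzSub.letters_ok Cfsg.Agent.Lib.CosetEnum.SuzSub.letters_col [2, 3]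
    Cfsg.Agent.Lib.CosetEnum.SuzChain.L2.data 7 9 8 Cfsg.Agent.Lib.CosetEnum.SuzChain.L2.table Cfsg.Agent.Lib.CosetEnum.SuzChain.L2.vert Cfsg.Agent.Lib.CosetEnum.SuzChain.L2.edge (by omega) rfl (by decide +kernel) (by decide +kernel)
    (by decide +kernel) [[],
    [0, 1, 0, 1, 0, 1, 0, 1, 0, 1, 0, 1, 0, 1, 0, 1],
    [0, 0],
    [1, 1]] [[0]]
    (by decide +kernel) (by decide +kernel) rfl rfl (by decide +kernel)
    (fun φ H hV => Cfsg.Agent.Lib.CosetEnum.SuzChain.L2.good _ _ φ H hV) (by decide +kernel) Cfsg.Agent.Lib.CosetEnum.SuzChain.L2.edges_ok 2 bound1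

theorem bound4 :
    Nat.card (subOf Cfsg.Agent.Lib.CosetEnum.SuzSub.letters Cfsg.Agent.Lib.CosetEnum.SuzSub.pres ([0, 1, 2, 3].map fun g => [g])) ≠ 0 ∧
    Nat.card (subOf Cfsg.Agent.Lib.CosetEnum.SuzSub.letters Cfsg.Agent.Lib.CosetEnum.SuzSub.pres ([0, 1, 2, 3].map fun g => [g])) ≤ 2160 :=
  card_le_of_enum Cfsg.Agent.Lib.CosetEnum.SuzSub.letters Cfsg.Agent.Lib.CosetEnum.SuzSub.pres Cfsg.Agent.Lib.CosetEnum.SuzSub.rels_mem Cfsg.Agent.Lib.CosetEnum.SuzSub.letters_ok Cfsg.Agent.Lib.CosetEnum.SuzSub.letters_col [0, 1, 2, 3]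
    Cfsg.Agent.Lib.CosetEnum.SuzChain.L4.data 732 1861 135 Cfsg.Agent.Lib.CosetEnum.SuzChain.L4.table Cfsg.Agent.Lib.CosetEnum.SuzChain.L4.vert Cfsg.Agent.Lib.CosetEnum.SuzChain.L4.edge (by omega) rfl (by decide +kernel) (by decide +kernel)
    (by decide +kernel) [[],
    [0, 1, 0, 1, 0, 1, 0, 1, 0, 1],
    [0, 2, 0, 2],
    [0, 3, 0, 3],
    [1, 2, 1, 2, 1, 2],
    [1, 3, 1, 3],
    [2, 3, 2, 3, 2, 3, 2, 3, 2, 3, 2, 3, 2, 3, 2, 3],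
    [0, 3, 2, 3, 2, 3, 2, 3, 2],
    [0, 0],
    [1, 1],
    [2, 2],
    [3, 3]] [[2],
    [3]]
    (by decide +kernel) (by decide +kernel) rfl rfl (by decide +kernel)
    (fun φ H hV => Cfsg.Agent.Lib.CosetEnum.SuzChain.L4.good _ _ φ H hV) (by decide +kernel) Cfsg.Agent.Lib.CosetEnum.SuzChain.L4.edges_ok 16 bound2

theorem bound5 :
    Nat.card (subOf Cfsg.Agent.Lib.CosetEnum.SuzSub.letters Cfsg.Agent.Lib.CosetEnum.SuzSub.pres ([0, 1, 2, 3, 4].map fun g => [g])) ≠ 0 ∧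
    Nat.card (subOf Cfsg.Agent.Lib.CosetEnum.SuzSub.letters Cfsg.Agent.Lib.CosetEnum.SuzSub.pres ([0, 1, 2, 3, 4].map fun g => [g])) ≤ 604800 :=
  card_le_of_enum Cfsg.Agent.Lib.CosetEnum.SuzSub.letters Cfsg.Agent.Lib.CosetEnum.SuzSub.pres Cfsg.Agent.Lib.CosetEnum.SuzSub.rels_mem Cfsg.Agent.Lib.CosetEnum.SuzSub.letters_ok Cfsg.Agent.Lib.CosetEnum.SuzSub.letters_col [0, 1, 2, 3, 4]
    Cfsg.Agent.Lib.CosetEnum.SuzChain.L5.data 857 2582 280 Cfsg.Agent.Lib.CosetEnum.SuzChain.L5.table Cfsg.Agent.Lib.CosetEnum.SuzChain.L5.vert Cfsg.Agent.Lib.CosetEnum.SuzChain.L5.edge (by omega) rfl (by decide +kernel) (by decide +kernel)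
    (by decide +kernel) [[],
    [0, 1, 0, 1, 0, 1, 0, 1, 0, 1],
    [0, 2, 0, 2],
    [0, 3, 0, 3],
    [0, 4, 0, 4],
    [1, 2, 1, 2, 1, 2],
    [1, 3, 1, 3],
    [1, 4, 1, 4],
    [2, 3, 2, 3, 2, 3, 2, 3, 2, 3, 2, 3, 2, 3, 2, 3],
    [2, 4, 2, 4],
    [3, 4, 3, 4, 3, 4],
    [0, 3, 2, 3, 2, 3, 2, 3, 2],
    [1, 2, 3, 2, 3, 1, 2, 3, 2, 3, 1, 2, 3, 2, 3, 1, 2, 3, 2, 3, 1, 2, 3, 2, 3, 4, 1, 2, 3, 2, 3, 1, 2, 3, 2, 3, 1, 2, 3, 2, 3, 1, 2, 3, 2, 3, 1, 2, 3, 2, 3, 4, 1, 2, 3, 2, 3, 1, 2, 3, 2, 3, 1, 2, 3, 2, 3, 1, 2, 3, 2, 3, 1, 2, 3, 2, 3, 4],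
    [0, 0],
    [1, 1],
    [2, 2],
    [3, 3],
    [4, 4]] [[0],
    [1],
    [2],
    [3]]
    (by decide +kernel) (by decide +kernel) rfl rfl (by decide +kernel)
    (fun φ H hV => Cfsg.Agent.Lib.CosetEnum.SuzChain.L5.good _ _ φ H hV) (by decide +kernel) Cfsg.Agent.Lib.CosetEnum.SuzChain.L5.edges_ok 2160 bound4

theorem bound6 :
    Nat.card (subOf Cfsg.Agent.Lib.CosetEnum.SuzSub.letters Cfsg.Agent.Lib.CosetEnum.SuzSub.pres ([0, 1, 2, 3, 4, 5].map fun g => [g])) ≠ 0 ∧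
    Nat.card (subOf Cfsg.Agent.Lib.CosetEnum.SuzSub.letters Cfsg.Agent.Lib.CosetEnum.SuzSub.pres ([0, 1, 2, 3, 4, 5].map fun g => [g])) ≤ 251596800 :=
  card_le_of_enum Cfsg.Agent.Lib.CosetEnum.SuzSub.letters Cfsg.Agent.Lib.CosetEnum.SuzSub.pres Cfsg.Agent.Lib.CosetEnum.SuzSub.rels_mem Cfsg.Agent.Lib.CosetEnum.SuzSub.letters_ok Cfsg.Agent.Lib.CosetEnum.SuzSub.letters_col [0, 1, 2, 3, 4, 5]
    Cfsg.Agent.Lib.CosetEnum.SuzChain.L6.data 890 2939 416 Cfsg.Agent.Lib.CosetEnum.SuzChain.L6.table Cfsg.Agent.Lib.CosetEnum.SuzChain.L6.vert Cfsg.Agent.Lib.CosetEnum.SuzChain.L6.edge (by omega) rfl (by decide +kernel) (by decide +kernel)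
    (by decide +kernel) [[],
    [0, 1, 0, 1, 0, 1, 0, 1, 0, 1],
    [0, 2, 0, 2],
    [0, 3, 0, 3],
    [0, 4, 0, 4],
    [0, 5, 0, 5],
    [1, 2, 1, 2, 1, 2],
    [1, 3, 1, 3],
    [1, 4, 1, 4],
    [1, 5, 1, 5, 1, 5],
    [2, 3, 2, 3, 2, 3, 2, 3, 2, 3, 2, 3, 2, 3, 2, 3],
    [2, 4, 2, 4],
    [2, 5, 2, 5],
    [3, 4, 3, 4, 3, 4],
    [3, 5, 3, 5],
    [4, 5, 4, 5],
    [0, 3, 2, 3, 2, 3, 2, 3, 2],
    [0, 1, 2, 5, 0, 1, 2, 5, 0, 1, 2, 5, 0, 1, 2, 5, 0, 1, 2, 5],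
    [1, 2, 3, 2, 3, 1, 2, 3, 2, 3, 1, 2, 3, 2, 3, 1, 2, 3, 2, 3, 1, 2, 3, 2, 3, 4, 1, 2, 3, 2, 3, 1, 2, 3, 2, 3, 1, 2, 3, 2, 3, 1, 2, 3, 2, 3, 1, 2, 3, 2, 3, 4, 1, 2, 3, 2, 3, 1, 2, 3, 2, 3, 1, 2, 3, 2, 3, 1, 2, 3, 2, 3, 1, 2, 3, 2, 3, 4],
    [0, 0],
    [1, 1],
    [2, 2],
    [3, 3],
    [4, 4],
    [5, 5]] [[0],
    [1],
    [2],
    [3],
    [4]]
    (by decide +kernel) (by decide +kernel) rfl rfl (by decide +kernel)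
    (fun φ H hV => Cfsg.Agent.Lib.CosetEnum.SuzChain.L6.good _ _ φ H hV) (by decide +kernel) Cfsg.Agent.Lib.CosetEnum.SuzChain.L6.edges_ok 604800 bound5

theorem card_le : Nat.card (PresentedGroup pres) ≠ 0 ∧ Nat.card (PresentedGroup pres) ≤ 251596800 := by
  have h := bound6
  have htop : subOf letters pres (([0, 1, 2, 3, 4, 5] : List ℕ).map fun g => [g]) = ⊤ :=
    subOf_range_eq_top letters pres letters_col
  rw [htop, Subgroup.card_top] at h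
  exact h

end Cfsg.Agent.Lib.CosetEnum.SuzSub
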